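import Cfsg.Agent.CosetEnum.Basic

/-! Certificate of a coset enumeration (generated data, owner: helper66). -/

set_option autoImplicit false
set_option maxRecDepth 1000000

namespace Cfsg.Agent.CosetEnum.RuB

noncomputable def tab : T := .l 0 0x50000000000900001000009000010000070000100000600001000006000010000080000100000800001fffffffffff000005000010000000000100000400000000004000000000030000000000200000000002000000000010000000000100000fffffffffff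

def lw : WT := .e

def L : LL := .cons 1 2 (.l [4,8,2,3,2,4,4,1,8] [112, 6, 0]) (.l [] []) ( .cons 2 1 (.l [9,2,3,3,1,4,1,9,3] [112, 5, 1]) (.l [] []) ( .cons 3 4 (.l [9,9] [20, 2, 1]) (.l [] []) ( .cons 4 3 (.l [8,8] [20, 0, 0]) (.l [] []) ( .cons 5 5 (.l [8,5,4,5,3,5,9] [17, 2, 0]) (.l [] []) ( .cons 6 7 (.l [1,5,1,5,1,5,1] [53, 1, 0]) (.l [] []) ( .cons 7 6 (.l [2,5,2,5,2,5,2] [53, 0, 1]) (.l [] []) ( .cons 8 9 (.e) (.e) ( .cons 9 8 (.l [3,8] [20, 2, 0]) (.e) ( .nil )))))))))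

def iv : List (Nat × Nat) := [(1, 2), (3, 4), (6, 7), (8, 9)]

def RL : List (List Nat × Nat) := [([1], 5), ([3], 6), ([6], 3), ([1, 1, 3], 3), ([1, 1, 4, 1, 4], 2), ([1, 4, 4], 4), ([1, 1, 4, 2, 3, 3], 2), ([1, 1, 1, 4], 3), ([1, 1, 1, 3, 2, 3], 2), ([1, 1, 3, 3, 2, 4], 2), ([1, 3, 1, 3, 2, 3], 2), ([5, 6], 13), ([5, 7, 5, 6], 5), ([5, 7, 5, 7, 5, 6, 5, 6], 4), ([5, 6, 5, 6, 5, 6, 5, 6, 5, 7], 6), ([2, 5, 7, 5, 7, 5, 7, 5], 1), ([4, 6, 5, 7, 5, 7, 5, 6, 5, 7, 5, 7, 5, 6], 1), ([9, 5, 8, 5, 4, 5, 3, 5], 1), ([9, 6, 8, 4, 2, 4, 6, 4, 4, 7, 3, 1, 3], 1), ([9, 1, 8, 3, 2, 3, 3, 1, 4, 1, 3], 1), ([8, 8, 3], 1), ([4, 9, 3, 8], 1), ([7, 2, 2, 7, 3], 1), ([7, 7, 4, 6, 1, 1], 1), ([7, 2, 2, 7, 9, 9], 1), ([7, 4, 6, 2, 6, 4], 1), ([7,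 5, 2, 6, 5, 1], 1), ([7, 1, 1, 1, 7, 3], 1), ([7, 7, 2, 5, 7, 1, 5], 1), ([7, 7, 2, 6, 4, 7, 4], 1), ([7, 7, 4, 7, 4, 6, 2], 1), ([7, 7, 5, 1, 7, 5, 2], 1), ([7, 2, 2, 7, 9, 3, 8], 1), ([7, 2, 2, 7, 8, 3, 9], 1), ([7, 4, 6, 2, 6, 8, 8], 1), ([7, 9, 9, 7, 1, 1, 1], 1), ([7, 9, 9, 6, 3, 7, 1], 1), ([4, 4, 4, 4, 4, 8, 8], 1), ([4, 4, 4, 4, 8, 4, 8], 1), ([7, 2, 2, 4, 6, 1, 1, 3], 1), ([7, 2, 5, 6, 2, 5, 6, 3], 1), ([7, 2, 5, 6, 3, 6, 5, 2], 1), ([7, 4, 2, 5, 6, 3, 1, 5], 1), ([7, 4, 5, 7, 1, 7, 1, 4], 1), ([7, 4, 5, 2, 6, 5, 6, 4], 1), ([7, 4, 5, 4, 7, 4, 1, 4], 1), ([7, 4, 6, 2, 6, 9, 4, 8], 1), ([7, 4, 6, 5, 6, 2, 5, 4], 1), ([7, 4, 6, 1, 5, 7, 1, 5], 1), ([7, 4, 1, 7, 5, 7, 1, 4], 1), ([7, 4, 1, 7, 1, 7, 5, 4], 1), ([7, 9,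 4, 8, 6, 2, 6, 4], 1), ([7, 5, 1, 1, 7, 3, 5, 1], 1), ([7, 1, 5, 1, 5, 1, 5, 1], 1), ([7, 1, 5, 3, 7, 1, 1, 5], 1), ([2, 9, 2, 9, 2, 9, 2, 9], 1), ([4, 4, 4, 5, 4, 4, 4, 5], 1), ([4, 4, 4, 5, 3, 3, 3, 5], 1), ([7, 7, 2, 6, 2, 6, 5, 6, 2], 1), ([7, 7, 3, 2, 6, 5, 6, 2, 3], 1), ([7, 2, 2, 4, 7, 4, 6, 2, 3], 1), ([7, 2, 2, 4, 6, 2, 2, 2, 3], 1), ([7, 2, 2, 6, 2, 2, 7, 3, 3], 1), ([7, 2, 5, 7, 2, 6, 4, 5, 2], 1), ([7, 2, 5, 7, 4, 7, 5, 1, 3], 1), ([7, 2, 5, 4, 6, 2, 7, 5, 2], 1), ([7, 4, 7, 5, 2, 7, 3, 1, 5], 1), ([7, 4, 2, 2, 7, 3, 2, 6, 4], 1), ([7, 4, 5, 7, 1, 7, 1, 8, 8], 1), ([7, 1, 7, 3, 2, 2, 7, 3, 3], 1), ([2, 9, 2, 9, 2, 9, 2, 3, 8], 1), ([2, 9, 2, 9, 2, 9, 2, 8, 3], 1), ([4, 4, 4, 5, 4, 8, 4, 8, 5], 1), ([4, 4, 4, 5,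 9, 3, 9, 3, 5], 1), ([4, 4, 4, 5, 9, 3, 3, 9, 5], 1), ([4, 4, 4, 5, 3, 9, 3, 9, 5], 1), ([4, 4, 4, 5, 8, 4, 8, 4, 5], 1), ([4, 9, 5, 4, 5, 3, 5, 9, 5], 1), ([4, 5, 4, 5, 3, 5, 9, 5, 9], 1), ([7, 2, 7, 5, 7, 1, 7, 1, 6, 3], 1), ([7, 2, 7, 5, 4, 7, 4, 1, 6, 3], 1), ([7, 2, 7, 1, 4, 7, 4, 5, 6, 3], 1), ([7, 2, 7, 3, 6, 5, 4, 7, 4, 1], 1), ([7, 2, 7, 3, 6, 1, 7, 5, 7, 1], 1), ([7, 2, 2, 6, 4, 1, 7, 1, 7, 5], 1), ([7, 2, 4, 7, 4, 1, 7, 5, 6, 3], 1), ([7, 2, 5, 4, 5, 2, 7, 5, 6, 5], 1), ([7, 2, 5, 6, 1, 7, 3, 5, 1, 3], 1), ([7, 4, 2, 7, 3, 6, 5, 7, 1, 4], 1), ([7, 4, 2, 7, 3, 6, 1, 7, 5, 4], 1), ([7, 4, 5, 7, 5, 2, 5, 2, 5, 4], 1), ([7, 4, 5, 7, 1, 4, 6, 2, 2, 4], 1), ([7, 4, 5, 2, 5, 2, 5, 7, 5, 4], 1), ([7, 4, 5, 2, 3, 6, 3, 5,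 1, 4], 1), ([7, 4, 6, 5, 3, 7, 1, 1, 5, 4], 1), ([7, 4, 6, 1, 5, 2, 5, 2, 5, 2], 1), ([7, 4, 1, 7, 3, 5, 1, 3, 1, 5], 1), ([7, 4, 1, 4, 7, 3, 3, 5, 3, 3], 1), ([7, 4, 1, 5, 1, 5, 6, 5, 1, 4], 1), ([7, 9, 6, 4, 5, 3, 7, 8, 6, 5], 1), ([7, 5, 2, 4, 6, 1, 5, 4, 6, 2], 1), ([7, 5, 4, 5, 2, 4, 2, 5, 4, 1], 1), ([7, 5, 6, 9, 1, 9, 5, 8, 2, 8], 1), ([7, 5, 1, 3, 1, 5, 3, 7, 1, 4], 1), ([7, 1, 4, 5, 2, 4, 2, 5, 4, 5], 1), ([7, 1, 1, 5, 2, 5, 2, 5, 2, 3], 1), ([7, 3, 7, 3, 1, 1, 3, 1, 1, 3], 1), ([7, 3, 2, 5, 2, 5, 2, 5, 1, 1], 1), ([2, 2, 2, 3, 1, 1, 3, 1, 1, 3], 1), ([2, 2, 4, 2, 2, 4, 2, 2, 8, 8], 1), ([2, 2, 9, 3, 2, 3, 2, 9, 2, 4], 1), ([2, 2, 3, 9, 2, 3, 2, 9, 2, 4], 1), ([2, 4, 4, 1, 8, 2, 4, 8, 2, 3], 1), ([2, 4, 4, 1, 8, 2,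 8, 4, 2, 3], 1), ([4, 4, 5, 9, 5, 8, 5, 3, 3, 5], 1)]

def subs : List (List Nat) := [[1], [3], [5], [6]]

noncomputable def P : Par := ⟨tab, 440, 2839213766779714416208296124562517712318911565184836172974571090549372219192960637992933791850638927971728600024477257552869537611775, 2, icG 9 iv, lw⟩

end Cfsg.Agent.CosetEnum.RuB
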