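import Cfsg.Agent.CosetEnum.Step
import Cfsg.Agent.CosetEnum.Front2
import Cfsg.Agent.CosetEnum.Ru.DP0

/-! Certificate of a coset enumeration (generated data, owner: helper66). -/

set_option autoImplicit false
set_option maxRecDepth 1000000

namespace Cfsg.Agent.CosetEnum.RuD

theorem st : staticA 4 iv (RL.map expand) subs P L = true := by decide +kernel

theorem seg : Seg P L P.m 1560 :=
  (Seg.nil).snoc part0

theorem cert : Cert 4 iv RL subs 1560 := fun g H hl hrels hsubs =>
  upperA g H 4 iv hl (RL.map expand) subs hrels hsubs P L rfl st seg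

end Cfsg.Agent.CosetEnum.RuD
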