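import Cfsg.Agent.CosetEnum.Ru.KData

/-! Certificate of a coset enumeration (generated data, owner: helper66). -/

set_option autoImplicit false
set_option maxRecDepth 1000000

namespace Cfsg.Agent.CosetEnum.RuK

def ck0 : CK := .cons 32 1 0x90000c50420000d44c0000550009890000aa0032001760000ea0004280008500010a6700010b540004942a8000ad00110088004003300002d400081000102004a180003500085500004a011000b38000dd004aa80003d004800480040aa00001a009000aa80000d0009a00000d004890000853400025a00026800200004002860000f44c00003500480240020003280000ca000194000329d80006e8004840001e800080059c0001f0006240005a800400242000254840004289000086 ( .cons 6 0 0x72000c6240001e800081200012a00100080a4002021 ( .nil ))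

theorem part0 : chunks P L 38 ck0 0 1 = true := by decide +kernel

end Cfsg.Agent.CosetEnum.RuK
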