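import Cfsg.Agent.CosetEnum.Basic

/-! Certificate of a coset enumeration (generated data, owner: helper66). -/

set_option autoImplicit false
set_option maxRecDepth 1000000

namespace Cfsg.Agent.CosetEnum.RuKT

noncomputable def tab : T := .l 0 0xfffffffffff0000010000000000000000ffffffffffffffffffffffffffffffffffffffffffff00000300001ffffffffffffffffffffffffffffffffffffffffffff00000000000ffffffffffffffffffffff00000600001fffffffffffffffffffffffffffffffff00000000000fffffffffffffffffffffffffffffffff00000700001ffffffffffffffffffffffffffffffffffffffffffffffffffffffffffffffffff0000000000000000500001fffffffffff00000400000fffffffffffffffffffffffffffffffff00000000000fffffffffff0000080000000000100005000002000050000000000500000000004000000000030000000000200000000001fffffffffff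

def lw : WT := .n 2 (.n 1 (.l [2,2,2,2,2] [0, 0, 1]) (.l [1,5,6,5,6,5,6,5] [15, 1, 1])) (.n 3 (.l [4,6,2,2,2,6] [21, 0, 1]) (.n 4 (.l [3,6,6,2,2,7] [18, 3, 1]) (.l [5,6,5,6,5,6,5,1] [15, 0, 1])))

def L : LL := .cons 1 2 (.e) (.e) ( .cons 2 1 (.e) (.e) ( .cons 3 4 (.e) (.e) ( .cons 4 3 (.e) (.e) ( .cons 5 5 (.e) (.e) ( .cons 6 7 (.l [5] [81, 1, 1]) (.e) ( .cons 7 6 (.l [5] [81, 0, 0]) (.e) ( .nil )))))))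

def iv : List (Nat × Nat) := [(1, 2), (3, 4), (6, 7)]

def RL : List (List Nat × Nat) := [([1], 5), ([3], 6), ([6], 3), ([1, 1, 3], 3), ([1, 1, 4, 1, 4], 2), ([1, 4, 4], 4), ([1, 1, 4, 2, 3, 3], 2), ([1, 1, 1, 4], 3), ([1, 1, 1, 3, 2, 3], 2), ([1, 1, 3, 3, 2, 4], 2), ([1, 3, 1, 3, 2, 3], 2), ([5, 6], 13), ([5, 7, 5, 6], 5), ([5, 7, 5, 7, 5, 6, 5, 6], 4), ([5, 6, 5, 6, 5, 6, 5, 6, 5, 7], 6), ([2, 5, 7, 5, 7, 5, 7, 5], 1), ([4, 6, 5, 7, 5, 7, 5, 6, 5, 7, 5, 7, 5, 6], 1), ([7, 2, 2, 7, 3], 1), ([7, 7, 4, 6, 1, 1], 1), ([7, 4, 6, 2, 6, 4], 1), ([7, 5, 2, 6, 5, 1], 1), ([7, 1, 1, 1, 7, 3], 1), ([7, 7, 2, 5, 7, 1, 5], 1), ([7, 7, 2, 6, 4, 7, 4], 1), ([7, 7, 4, 7, 4, 6, 2], 1), ([7, 7, 5, 1, 7, 5, 2], 1), ([7, 2, 2, 4, 6, 1, 1, 3], 1), ([7, 2, 5, 6, 2, 5, 6, 3], 1),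 ([7, 2, 5, 6, 3, 6, 5, 2], 1), ([7, 4, 2, 5, 6, 3, 1, 5], 1), ([7, 4, 5, 7, 1, 7, 1, 4], 1), ([7, 4, 5, 2, 6, 5, 6, 4], 1), ([7, 4, 5, 4, 7, 4, 1, 4], 1), ([7, 4, 6, 5, 6, 2, 5, 4], 1), ([7, 4, 6, 1, 5, 7, 1, 5], 1), ([7, 4, 1, 7, 5, 7, 1, 4], 1), ([7, 4, 1, 7, 1, 7, 5, 4], 1), ([7, 5, 1, 1, 7, 3, 5, 1], 1), ([7, 1, 5, 1, 5, 1, 5, 1], 1), ([7, 1, 5, 3, 7, 1, 1, 5], 1), ([4, 4, 4, 5, 4, 4, 4, 5], 1), ([4, 4, 4, 5, 3, 3, 3, 5], 1), ([7, 7, 2, 6, 2, 6, 5, 6, 2], 1), ([7, 7, 3, 2, 6, 5, 6, 2, 3], 1), ([7, 2, 2, 4, 7, 4, 6, 2, 3], 1), ([7, 2, 2, 4, 6, 2, 2, 2, 3], 1), ([7, 2, 2, 6, 2, 2, 7, 3, 3], 1), ([7, 2, 5, 7, 2, 6, 4, 5, 2], 1), ([7, 2, 5, 7, 4, 7, 5, 1, 3], 1), ([7, 2, 5, 4, 6, 2, 7, 5, 2], 1), ([7, 4, 7, 5, 2, 7, 3, 1, 5], 1), ([7, 4, 2, 2, 7, 3, 2, 6, 4], 1),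 ([7, 1, 7, 3, 2, 2, 7, 3, 3], 1), ([7, 2, 7, 5, 7, 1, 7, 1, 6, 3], 1), ([7, 2, 7, 5, 4, 7, 4, 1, 6, 3], 1), ([7, 2, 7, 1, 4, 7, 4, 5, 6, 3], 1), ([7, 2, 7, 3, 6, 5, 4, 7, 4, 1], 1), ([7, 2, 7, 3, 6, 1, 7, 5, 7, 1], 1), ([7, 2, 2, 6, 4, 1, 7, 1, 7, 5], 1), ([7, 2, 4, 7, 4, 1, 7, 5, 6, 3], 1), ([7, 2, 5, 4, 5, 2, 7, 5, 6, 5], 1), ([7, 2, 5, 6, 1, 7, 3, 5, 1, 3], 1), ([7, 4, 2, 7, 3, 6, 5, 7, 1, 4], 1), ([7, 4, 2, 7, 3, 6, 1, 7, 5, 4], 1), ([7, 4, 5, 7, 5, 2, 5, 2, 5, 4], 1), ([7, 4, 5, 7, 1, 4, 6, 2, 2, 4], 1), ([7, 4, 5, 2, 5, 2, 5, 7, 5, 4], 1), ([7, 4, 5, 2, 3, 6, 3, 5, 1, 4], 1), ([7, 4, 6, 5, 3, 7, 1, 1, 5, 4], 1), ([7, 4, 6, 1, 5, 2, 5, 2, 5, 2], 1), ([7, 4, 1, 7, 3, 5, 1, 3, 1, 5], 1), ([7, 4, 1, 4, 7, 3, 3, 5, 3, 3], 1), ([7, 4, 1, 5, 1, 5, 6, 5, 1, 4], 1),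 ([7, 5, 2, 4, 6, 1, 5, 4, 6, 2], 1), ([7, 5, 4, 5, 2, 4, 2, 5, 4, 1], 1), ([7, 5, 1, 3, 1, 5, 3, 7, 1, 4], 1), ([7, 1, 4, 5, 2, 4, 2, 5, 4, 5], 1), ([7, 1, 1, 5, 2, 5, 2, 5, 2, 3], 1), ([7, 3, 7, 3, 1, 1, 3, 1, 1, 3], 1), ([7, 3, 2, 5, 2, 5, 2, 5, 1, 1], 1), ([2, 2, 2, 3, 1, 1, 3, 1, 1, 3], 1), ([5, 6], 1)]

def subs : List (List Nat) := []

noncomputable def P : Par := ⟨tab, 352, 9173994463960286046443283581208347763186259956673124494950355357547691504353939232280074212440502746218495, 6, icG 7 iv, lw⟩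

end Cfsg.Agent.CosetEnum.RuKT
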