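import Cfsg.Agent.CosetEnum.Ru.TData

/-! Permutation table (generated data, owner: helper66). -/

set_option autoImplicit false
set_option maxRecDepth 1000000

namespace Cfsg.Agent.CosetEnum.RuT

theorem h0 : allR (orbC P letsk cwT 0 1) 0 1 = true := by decide +kernel

theorem h1 : allR (orbC P letsk cwT 1 2305) 1 2304 = true := by decide +kernel

theorem h2 : allR (orbC P letsk cwT 2305 4060) 2305 1755 = true := by decide +kernel

theorem t0 : allR (orbC P letsT cwT 2305 4060) 2305 1755 = true := by decide +kernel

theorem u0 : allR (orbC P letsU [] 2305 2306) 2305 1 = true := by decide +kernel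

theorem u1 : allR (orbC P letsU [] 2306 2818) 2306 512 = true := by decide +kernel

theorem u2 : allR (orbC P letsU [] 2818 2898) 2818 80 = true := by decide +kernel

theorem u3 : allR (orbC P letsU [] 2898 3410) 2898 512 = true := by decide +kernel

theorem u4 : allR (orbC P letsU [] 3410 4050) 3410 640 = true := by decide +kernel

theorem u5 : allR (orbC P letsU [] 4050 4060) 4050 10 = true := by decide +kernel

end Cfsg.Agent.CosetEnum.RuT
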