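import Cfsg.Agent.CosetEnum.Level
import Cfsg.Agent.CosetEnum.Ru.TR0
import Cfsg.Agent.CosetEnum.Ru.TR1
import Cfsg.Agent.CosetEnum.Ru.TR2
import Cfsg.Agent.CosetEnum.Ru.TR3
import Cfsg.Agent.CosetEnum.Ru.TR4
import Cfsg.Agent.CosetEnum.Ru.TR5
import Cfsg.Agent.CosetEnum.Ru.TR6
import Cfsg.Agent.CosetEnum.Ru.TR7
import Cfsg.Agent.CosetEnum.Ru.TR8
import Cfsg.Agent.CosetEnum.Ru.TH

/-! Permutation table (generated data, owner: helper66). -/

set_option autoImplicit false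
set_option maxRecDepth 1000000

namespace Cfsg.Agent.CosetEnum.RuT

theorem st : letsB 11 iv lets RL = true := by decide +kernel

theorem sk : subB 9 iv letsk = true := by decide +kernel

theorem sT : subB 7 iv letsT = true := by decide +kernel

theorem tabOK : TabOK P 11 iv lets RL := ⟨st, ((((((((Cov.of r0 rfl).trans (Cov.of r1 rfl)).trans (Cov.of r2 rfl)).trans (Cov.of r3 rfl)).trans (Cov.of r4 rfl)).trans (Cov.of r5 rfl)).trans (Cov.of r6 rfl)).trans (Cov.of r7 rfl)).trans (Cov.of r8 rfl)⟩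

theorem covO : Cov (orbC P lets cw 0 P.m) 0 P.m := ((((((((Cov.of o0 rfl).trans (Cov.of o1 rfl)).trans (Cov.of o2 rfl)).trans (Cov.of o3 rfl)).trans (Cov.of o4 rfl)).trans (Cov.of o5 rfl)).trans (Cov.of o6 rfl)).trans (Cov.of o7 rfl)).trans (Cov.of o8 rfl)

theorem covT : Cov (orbC P letsT cwT 2305 4060) 2305 4060 := Cov.of t0 rfl

theorem orbs : Orbs P letsk cwT [0, 1, 2305, 4060] :=
  ⟨by decide +kernel, by decide +kernel, Cov.of h0 rfl, ⟨by decide +kernel, by decide +kernel, Cov.of h1 rfl, ⟨by decide +kernel, by decide +kernel, Cov.of h2 rfl, trivial⟩⟩⟩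

theorem orbsU : Orbs P letsU [] [2305, 2306, 2818, 2898, 3410, 4050, 4060] :=
  ⟨by decide +kernel, by decide +kernel, Cov.of u0 rfl, ⟨by decide +kernel, by decide +kernel, Cov.of u1 rfl, ⟨by decide +kernel, by decide +kernel, Cov.of u2 rfl, ⟨by decide +kernel, by decide +kernel, Cov.of u3 rfl, ⟨by decide +kernel, by decide +kernel, Cov.of u4 rfl, ⟨by decide +kernel, by decide +kernel, Cov.of u5 rfl, trivial⟩⟩⟩⟩⟩⟩

theorem last : lastD 1 [2305, 4060] = P.m := rfl

theorem lastU : lastD 2306 [2818, 2898, 3410, 4050, 4060] = P.m := rfl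

end Cfsg.Agent.CosetEnum.RuT
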