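import Cfsg.Agent.CosetEnum.Prime
import Cfsg.Agent.CosetEnum.Rename
import Cfsg.Agent.CosetEnum.Ru.A
import Cfsg.Agent.CosetEnum.Ru.B
import Cfsg.Agent.CosetEnum.Ru.C
import Cfsg.Agent.CosetEnum.Ru.D
import Cfsg.Agent.CosetEnum.Ru.E
import Cfsg.Agent.CosetEnum.Ru.K
import Cfsg.Agent.CosetEnum.Ru.KT
import Cfsg.Agent.CosetEnum.Ru.T
import Cfsg.Agent.CosetEnum.Ru.X
import Cfsg.Agent.CosetEnum.Ru.XT

/-!
The Rudvalis group as a presented group: order, action on 4060 points, simplicity of it and of the Tits subgroup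
(owner: helper66).
-/

set_option autoImplicit false
set_option maxRecDepth 1000000

namespace Cfsg.Agent.CosetEnum.Ru

open MulAction

/-- the presented Rudvalis group -/
abbrev GR : Type := QG 11 RuT.iv RuT.RL

/-- its letters: `c c⁻¹ d d⁻¹ a b b⁻¹ y y⁻¹ x u` -/
abbrev gR : ℕ → GR := qg 11 RuT.iv RuT.RL

theorem UR : Univ gR 11 RuT.iv RuT.RL := univ_qg _ _ _

theorem bd7 : Bd (Cl gR 7) 17971200 := by
  have g := UR.good
  have h2 := (Bd.zero gR).cl (M := 5) RuE.cert g (by decide +kernel) (by decide +kernel) (by norm_num) rfl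
  have h4 := h2.cl (M := 7800) RuD.cert g (by decide +kernel) (by decide +kernel) (by norm_num) rfl
  exact h4.cl (M := 17971200) RuC.cert g (by decide +kernel) (by decide +kernel) (by norm_num) rfl

theorem bd9 : Bd (Cl gR 9) 35942400 :=
  bd7.cl (M := 35942400) RuB.cert UR.good (by decide +kernel) (by decide +kernel) (by norm_num) rfl

theorem bd11 : Bd (⊤ : Subgroup GR) 145926144000 := by
  rw [← UR.top]
  exact bd9.cl (M := 145926144000) RuA.cert UR.good (by decide +kernel) (by decide +kernel) (by norm_num) rfl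

theorem L9 : Lvl gR 11 RuT.iv RuT.lets RuT.P 9 [2305, 4060] :=
  lvl_of UR RuT.tabOK RuT.sk (by norm_num) RuT.covO RuT.orbs RuT.last (show 1 < 4060 by norm_num)
    (RuA.cert.cl UR.good (by decide +kernel) (by decide +kernel) (by norm_num))

theorem faith_card : Faith gR RuT.lets RuT.P ∧
    ((∃ A : MulAction GR (Fin RuT.P.m), @Acts GR _ RuT.P A gR RuT.lets) → Nat.card GR = 145926144000) :=
  faith_of_chain RuT.tabOK.subB UR.top RuT.chain bd11 (by decide +kernel)

theorem card_GR : Nat.card GR = 145926144000 := by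
  obtain ⟨A, hA, _⟩ := RuT.tabOK.exists_action UR
  exact faith_card.2 ⟨A, hA⟩

theorem finite_GR : Finite GR := by
  apply Nat.finite_of_card_ne_zero
  rw [card_GR]
  norm_num

theorem card9 : Nat.card (Cl gR 9) = 35942400 := by
  have h := L9.card
  rw [card_GR] at h
  have h1 : (145926144000 : ℕ) = 4060 * 35942400 := by norm_num
  rw [h1] at h
  exact (Nat.eq_of_mul_eq_mul_left (show 0 < 4060 by norm_num) h).symm

theorem ClL7 : ClL gR RuT.letsT = Cl gR 7 := subB_ClL RuT.sT

theorem card7 : Nat.card (Cl gR 7) = 17971200 := by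
  have := finite_GR
  apply le_antisymm bd7.2
  have h := L9.card_ge (lets' := RuT.letsT) (by decide +kernel) RuXT.chain
  rw [ClL7] at h
  have h1 : (RuXT.ls.map fun p => p.2.length).prod = 17971200 := by decide +kernel
  rwa [h1] at h

theorem certK : Cert 11 RuT.iv (RuT.RL ++ [[10, 5, 3]].map fun e => (e, 1)) [] 1 := by
  have h1 : RuK.RL = RuT.RL ++ [[10, 5, 3]].map fun e => (e, 1) := by decide +kernel
  have h2 : RuK.iv = RuT.iv := by decide +kernel
  rw [← h1, ← h2]
  exact @RuK.cert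

/-- `x a d` has order `7` -/
theorem xad_mem (N : Subgroup GR) [N.Normal] (h : gR 10 * gR 5 * gR 3 ∈ N) : N = ⊤ := by
  refine collapse UR.good UR.top N (es := [[10, 5, 3]]) ?_ @certK
  intro e he
  rw [List.mem_singleton] at he
  subst he
  simpa [mul_assoc] using h

theorem simple_GR : IsSimpleGroup GR := by
  have := finite_GR
  refine L9.simple_prime UR.good.inv finite_GR faith_card.1 (by decide +kernel) (p := 7) (by norm_num)
    (by rw [card9]; norm_num) ({gR 10 * gR 5 * gR 3} : Set GR) ?_ ?_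
  · intro N hN h
    exact xad_mem N (h rfl)
  · rintro s rfl
    refine ⟨1, ?_⟩
    have h := UR.good.rel ([10, 5, 3], 7) (by decide +kernel)
    simpa [mul_assoc] using h

/-- letters are letters -/
theorem mem7 {x : ℕ} (h : isLet 7 x = true) : gR x ∈ ClL gR RuT.letsT := by
  rw [ClL7]
  exact mem_Cl gR h

theorem certKT : Cert 7 RuC.iv (RuC.RL ++ [[5, 6]].map fun e => (e, 1)) [] 1 := by
  have h1 : RuKT.RL = RuC.RL ++ [[5, 6]].map fun e => (e, 1) := by decide +kernel
  have h2 : RuKT.iv = RuC.iv := by decide +kernel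
  rw [← h1, ← h2]
  exact @RuKT.cert

theorem ab_mem (K : Subgroup GR) (hK : K = Cl gR 7) (h5 : gR 5 * gR 6 ∈ K) (N : Subgroup K) (hN : N.Normal)
    (hmem : (⟨gR 5 * gR 6, h5⟩ : K) ∈ N) : N = ⊤ := by
  subst hK
  have hg : Good (subFam gR 7) 7 RuC.iv RuC.RL := UR.good.subFam (by decide +kernel)
  refine collapse hg (subFam_top gR 7) N (es := [[5, 6]]) ?_ @certKT
  intro e he
  rw [List.mem_singleton] at he
  subst he
  have h1 : (([5, 6] : List ℕ).map (subFam gR 7)).prod = ⟨gR 5 * gR 6, h5⟩ := by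
    apply Subtype.ext
    have h2 : isLet 7 5 = true := rfl
    have h3 : isLet 7 6 = true := rfl
    simp only [List.map_cons, List.map_nil, List.prod_cons, List.prod_nil, mul_one, Subgroup.coe_mul, subFam_coe,
      CosetEnum.cut, h2, h3, if_true]
  rw [h1]
  exact hmem

theorem simple7 : IsSimpleGroup (Cl gR 7) := by
  have hfin := finite_GR
  obtain ⟨A, hA, _⟩ := RuT.tabOK.exists_action UR
  have h7 : ∀ x ∈ RuT.letsT, x ∈ RuT.lets := by decide
  have hU : ∀ x ∈ RuT.letsU, x ∈ RuT.lets := by decide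
  have hu : gR 11 ∈ ClL gR RuT.letsT := by
    have h := UR.good.rel ([3, 1, 5, 2, 4, 11], 1) (by decide +kernel)
    have h1 : gR 11 = (gR 3 * gR 1 * gR 5 * gR 2 * gR 4)⁻¹ := by
      rw [eq_comm, inv_eq_iff_mul_eq_one]
      simpa [mul_assoc] using h
    rw [h1]
    exact Subgroup.inv_mem _ (Subgroup.mul_mem _ (Subgroup.mul_mem _ (Subgroup.mul_mem _ (Subgroup.mul_mem _
      (mem7 rfl) (mem7 rfl)) (mem7 rfl)) (mem7 rfl)) (mem7 rfl))
  have hc7 : Nat.card (ClL gR RuT.letsT) = 17971200 := by rw [ClL7, card7]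
  have key : IsSimpleGroup (ClL gR RuT.letsT) := by
    refine simple_on_last (G := GR) (P := RuT.P) (hA.mono h7) (subB_inv UR.good.inv RuT.sT) (lo := 2305)
      (show 2305 + 1 < 4060 by norm_num) RuT.covT (hA.mono hU) ?_ ?_ RuT.orbsU RuT.lastU (by decide +kernel)
      RuXT.chain ?_ (by decide +kernel) (p := 13) (M := 10240) ?_ (by norm_num) (by norm_num)
      {⟨gR 5 * gR 6, Subgroup.mul_mem _ (mem7 rfl) (mem7 rfl)⟩} ?_ ?_
    · intro x hx
      have hx' : x = 1 ∨ x = 2 ∨ x = 11 := by simpa [RuT.letsU] using hx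
      rcases hx' with rfl | rfl | rfl
      · exact ⟨2, by decide, UR.good.inv 1⟩
      · exact ⟨1, by decide, UR.good.inv 2⟩
      · exact ⟨11, by decide, UR.good.inv 11⟩
    · intro x hx
      have hx' : x = 1 ∨ x = 2 ∨ x = 11 := by simpa [RuT.letsU] using hx
      rcases hx' with rfl | rfl | rfl
      · exact mem7 rfl
      · exact mem7 rfl
      · exact hu
    · rw [hc7]
      decide +kernel
    · rw [hc7]
      show (17971200 : ℕ) = (4060 - 2305) * 10240
      norm_num
    · intro N hN hmem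
      exact ab_mem _ ClL7 _ N hN (hmem rfl)
    · rintro s rfl
      refine ⟨1, ?_⟩
      apply Subtype.ext
      have h := UR.good.rel ([5, 6], 13) (by decide +kernel)
      simpa using h
  rw [ClL7] at key
  exact key

end Cfsg.Agent.CosetEnum.Ru
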